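import Groth.Agent.SepFamLib.Hom
import Groth.Agent.PBundleLib.Split
import Groth.Agent.CurveLib.TensorDeg
import Groth.Agent.DCohLib.ProjMap

/-!
# Inverse images under involutions
-/

set_option autoImplicit false
set_option backward.isDefEq.respectTransparency false
set_option linter.style.haveILetI false

universe u

open CategoryTheory CategoryTheory.Limits AlgebraicGeometry

noncomputable section

namespace Groth.Agent.InvBunLib

variable {X : Scheme.{u}} {σ : X ⟶ X}

/-- The square of the inverse image under an involution. -/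
def sqIso (hσ : σ ≫ σ = 𝟙 X) : Scheme.Modules.pullback σ ⋙ Scheme.Modules.pullback σ ≅ 𝟭 X.Modules :=
  Scheme.Modules.pullbackComp σ σ ≪≫ Scheme.Modules.pullbackCongr hσ ≪≫ Scheme.Modules.pullbackId X

theorem isEquivalence_pullback (hσ : σ ≫ σ = 𝟙 X) : (Scheme.Modules.pullback σ).IsEquivalence :=
  (CategoryTheory.Equivalence.mk (Scheme.Modules.pullback σ) (Scheme.Modules.pullback σ) (sqIso hσ).symm
    (sqIso hσ)).isEquivalence_functor

variable {k : Type u} [Field k] [X.Over (Spec (CommRingCat.of k))] [IsProper (X ↘ Spec (CommRingCat.of k))]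

theorem euler_pullback_auto (e : X ≅ X) (he : e.hom ≫ (X ↘ Spec (CommRingCat.of k)) = X ↘ Spec (CommRingCat.of k))
    (M : X.Modules) [Coh.IsQCoh M] :
    Curv2.euler k X ((Scheme.Modules.pullback e.hom).obj M) = Curv2.euler k X M := by
  refine finsum_congr fun q => congrArg (fun z : ℕ => (-1 : ℤ) ^ q * (z : ℤ)) ?_
  have hsq : IsPullback e.hom (X ↘ Spec (CommRingCat.of k)) (X ↘ Spec (CommRingCat.of k)) (𝟙 _) :=
    IsPullback.of_horiz_isIso ⟨by rw [he, Category.comp_id]⟩
  rw [SepFamLib.finrank_HH_point hsq M q, ← SepFamLib.fiberRank_field (N := M) q]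
  rfl

variable (hσS : σ ≫ (X ↘ Spec (CommRingCat.of k)) = X ↘ Spec (CommRingCat.of k))

include hσS in
/-- Degrees are unchanged by the inverse image under an involution over the field. -/
theorem deg_pullback (hσ : σ ≫ σ = 𝟙 X) {n : ℕ} {M : X.Modules} (hM : FlatMod.IsFinLocFreeOfRank n M) :
    Curv2.deg k X ((Scheme.Modules.pullback σ).obj M) n = Curv2.deg k X M n := by
  let e : X ≅ X := ⟨σ, σ, hσ, hσ⟩
  haveI := EulerIneqLib.isNoetherian_proper (X := X) k
  haveI : Coh.IsQCoh M := (DCohLib.isCoh_of_isFinLocFree (fun x => by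
    obtain ⟨U, hx, h⟩ := hM x
    exact ⟨U, n, hx, h⟩)).1
  haveI : Coh.IsQCoh (Coh.structureModule X) :=
    InvExt.isQCoh_of_isInvertible (ParaFLib.isInvertible_structureModule (X := X))
  have hO : Curv2.euler k X ((Scheme.Modules.pullback σ).obj (Coh.structureModule X)) =
      Curv2.euler k X (Coh.structureModule X) := euler_pullback_auto e hσS _
  have hOi : (Scheme.Modules.pullback σ).obj (Coh.structureModule X) ≅ Coh.structureModule X :=
    DCohLib.pullStructureIso σ
  rw [Curv2.deg, Curv2.deg, ← CurveLib.euler_iso (K := k) hOi, hO]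
  exact congrArg₂ (· - ·) (euler_pullback_auto e hσS M) rfl

end Groth.Agent.InvBunLib
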